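import Groth.Agent.HilbPtsLib.Desc
import Groth.Agent.HilbPtsLib.SymHilb
import Groth.Agent.SweepSix.FlatCancel
import Groth.Agent.S4091
import Groth.Agent.Unram17Lib.EtaleRank
import Groth.Agent.MonoQuotLib.Main
import Groth.Agent.MonoQuotLib.Kernel
import Groth.Agent.FinHomLib.Affine
import Mathlib.AlgebraicGeometry.ZariskisMainTheorem

/-! Homomorphisms of finite locally free groups of the expected degrees are faithfully flat. -/

set_option autoImplicit false
set_option linter.style.haveILetI false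
set_option backward.isDefEq.respectTransparency false
set_option maxHeartbeats 400000

noncomputable section

universe u

open CategoryTheory CategoryTheory.Limits MonoidalCategory CartesianMonoidalCategory AlgebraicGeometry
open scoped MonObj
open Groth.Agent

attribute [-instance] CategoryTheory.Hom.commGroup

namespace BTExactLib

/-- Flatness descends along a surjective flat map on the source. -/
theorem flat_of_surjective_comp {X Y Z : Scheme.{u}} (p : X ⟶ Y) (q : Y ⟶ Z) [Surjective p] [Flat p]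
    [Flat (p ≫ q)] : Flat q := by
  rw [Flat.iff_flat_stalkMap]
  intro y
  obtain ⟨x, rfl⟩ := p.surjective y
  have h := Flat.stalkMap (p ≫ q) x
  rw [Scheme.Hom.stalkMap_comp] at h
  exact SweepSix.flat_of_comp (q.stalkMap (p x)).hom (p.stalkMap x).hom (Flat.stalkMap p x) h

/-- Degrees multiply. -/
theorem finrank_comp {A B C : Scheme.{u}} {g : A ⟶ B} {h : B ⟶ C} {a : ℕ}
    (hg : Mor2.IsFinLocFreeOfDeg a g) [IsFinite h] [Flat h] (y : C) :
    (g ≫ h).finrank y = a * h.finrank y := by
  obtain ⟨⟨hg1, hg2, hg3⟩, hg4⟩ := hg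
  haveI := hg1
  haveI := hg2
  let ψ := C.fromSpecResidueField y
  let x₀ : Spec (C.residueField y) := IsLocalRing.closedPoint (C.residueField y)
  have H' : IsPullback (pullback.fst g (pullback.fst h ψ))
      (pullback.snd g (pullback.fst h ψ) ≫ pullback.snd h ψ) (g ≫ h) ψ :=
    (IsPullback.of_hasPullback g (pullback.fst h ψ)).paste_vert (IsPullback.of_hasPullback h ψ)
  have e1 := Scheme.Hom.finrank_of_isPullback _ _ (g ≫ h) ψ H' x₀
  have e2 := Scheme.Hom.finrank_of_isPullback _ _ h ψ (IsPullback.of_hasPullback h ψ) x₀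
  have e3 := HilbPts.SC.finrank_comp_field (pullback.snd g (pullback.fst h ψ)) (pullback.snd h ψ) (d := a)
    (fun w => by rw [Scheme.Hom.finrank_pullback_snd]; exact hg4 _) x₀
  rw [show ψ x₀ = y from C.fromSpecResidueField_apply y x₀] at e1 e2
  rw [← e1, e3, e2]

/-- A closed immersion between finite flat schemes of the same degree over an affine base is an isomorphism. -/
theorem isIso_of_sameRank {R : Type u} [CommRing R] {Q H : Scheme.{u}} (m : Q ⟶ H)
    (h : H ⟶ Spec (CommRingCat.of R)) [IsClosedImmersion m] [IsFinite h] [Flat h] [LocallyOfFinitePresentation h]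
    [Flat (m ≫ h)] [LocallyOfFinitePresentation (m ≫ h)]
    (hr : ∀ s, (m ≫ h).finrank s = h.finrank s) : IsIso m := by
  haveI : IsAffine H := isAffine_of_isAffineHom h
  haveI : IsAffine Q := isAffine_of_isAffineHom m
  letI : Algebra R Γ(H, ⊤) := ((Scheme.ΓSpecIso (CommRingCat.of R)).inv ≫ h.appTop).hom.toAlgebra
  letI : Algebra R Γ(Q, ⊤) := ((Scheme.ΓSpecIso (CommRingCat.of R)).inv ≫ (m ≫ h).appTop).hom.toAlgebra
  have key : ∀ {X : Scheme.{u}} [IsAffine X] (f : X ⟶ Spec (CommRingCat.of R)) [IsFinite f] [Flat f]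
      [LocallyOfFinitePresentation f],
      letI : Algebra R Γ(X, ⊤) := ((Scheme.ΓSpecIso (CommRingCat.of R)).inv ≫ f.appTop).hom.toAlgebra
      Module.Finite R Γ(X, ⊤) ∧ Module.Projective R Γ(X, ⊤) ∧
        ∀ p : PrimeSpectrum R, Module.rankAtStalk Γ(X, ⊤) p = f.finrank p := by
    intro X _ f _ _ _
    letI : Algebra R Γ(X, ⊤) := ((Scheme.ΓSpecIso (CommRingCat.of R)).inv ≫ f.appTop).hom.toAlgebra
    have hf : X.isoSpec.hom ≫ Spec.map (CommRingCat.ofHom (algebraMap R Γ(X, ⊤))) = f := by
      rw [RingHom.algebraMap_toAlgebra, CommRingCat.ofHom_hom, Spec.map_comp, ← Category.assoc,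
        Scheme.isoSpec_hom_naturality, Category.assoc]
      have e : (Spec (CommRingCat.of R)).isoSpec.hom ≫ Spec.map (Scheme.ΓSpecIso (CommRingCat.of R)).inv = 𝟙 _ := by
        rw [Scheme.isoSpec_Spec_hom, ← Spec.map_comp, Iso.inv_hom_id, Spec.map_id]
      exact (congrArg (f ≫ ·) e).trans (Category.comp_id f)
    have hs : Spec.map (CommRingCat.ofHom (algebraMap R Γ(X, ⊤))) = X.isoSpec.inv ≫ f :=
      (Iso.eq_inv_comp _).2 hf
    haveI h1 : IsFinite (Spec.map (CommRingCat.ofHom (algebraMap R Γ(X, ⊤)))) := by rw [hs]; infer_instance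
    haveI h2 : Flat (Spec.map (CommRingCat.ofHom (algebraMap R Γ(X, ⊤)))) := by rw [hs]; infer_instance
    haveI h3 : LocallyOfFinitePresentation (Spec.map (CommRingCat.ofHom (algebraMap R Γ(X, ⊤)))) := by
      rw [hs]; infer_instance
    haveI : Module.Finite R Γ(X, ⊤) := RingHom.finite_algebraMap.1 ((IsFinite.SpecMap_iff _).1 h1)
    haveI : Module.Flat R Γ(X, ⊤) := RingHom.flat_algebraMap_iff.1 (Flat.SpecMap_iff.1 h2)
    haveI : Algebra.FinitePresentation R Γ(X, ⊤) :=
      RingHom.finitePresentation_algebraMap.1 ((LocallyOfFinitePresentation.SpecMap_iff _).1 h3)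
    haveI : Module.FinitePresentation R Γ(X, ⊤) := Module.FinitePresentation.of_finite_of_finitePresentation R Γ(X, ⊤)
    refine ⟨inferInstance, Module.Flat.projective_of_finitePresentation, fun p => ?_⟩
    refine (Scheme.Hom.finrank_SpecMap_algebraMap R Γ(X, ⊤) p).symm.trans ?_
    rw [hs, Scheme.Hom.finrank_comp_left_of_isIso]
  obtain ⟨fH, pH, rH⟩ := key h
  obtain ⟨fQ, pQ, rQ⟩ := key (m ≫ h)
  haveI := fH; haveI := pH; haveI := fQ; haveI := pQ
  let φ : Γ(H, ⊤) →ₐ[R] Γ(Q, ⊤) := ⟨m.appTop.hom, fun r => by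
    simp only [RingHom.algebraMap_toAlgebra, CommRingCat.hom_comp, RingHom.coe_comp, Function.comp_apply,
      Scheme.Hom.comp_appTop]
    rfl⟩
  have hsurj : Function.Surjective φ := (IsClosedImmersion.isAffine_surjective_of_isAffine (f := m)).2
  have hb := Unram17Lib.bijective_of_surjective_of_rankAtStalk_eq φ.toLinearMap hsurj
    (funext fun p => by rw [rH, rQ, hr])
  exact IsClosedImmersion.isIso_of_injective_of_isAffine hb.1

variable {R : Type u} [CommRing R]

/-- A homomorphism of finite locally free groups whose kernel has the complementary degree is fppf. -/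
theorem isFinLocFreeOfDeg_surjective_of_kernel {G H K : Over (Spec (CommRingCat.of R))} [GrpObj G] [GrpObj H]
    (u : G ⟶ H) [IsMonHom u] (k : K ⟶ G) (hK : AlgGrp.IsKernel k u) {d e : ℕ} (hd : 0 < d)
    (hKd : Mor2.IsFinLocFreeOfDeg d K.hom) (hG : Mor2.IsFinLocFreeOfDeg (d * e) G.hom)
    (hH : Mor2.IsFinLocFreeOfDeg e H.hom) :
    Mor2.IsFinLocFreeOfDeg d u.left ∧ Surjective u.left := by
  let f := u.left
  haveI := hG.1.1; haveI := hG.1.2.1; haveI := hG.1.2.2
  haveI := hH.1.1; haveI := hH.1.2.1; haveI := hH.1.2.2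
  haveI : IsFinite (f ≫ H.hom) := by rw [Over.w u]; infer_instance
  haveI : IsFinite f := IsFinite.of_comp f H.hom
  haveI : Flat (f ≫ H.hom) := by rw [Over.w u]; infer_instance
  -- the kernel pair
  let μ' : G ⊗ K ⟶ G := fst G K * (snd G K ≫ k)
  have hw : fst G K ≫ u = μ' ≫ u := (MonoQuot.kernel_iff u k hK _ _ _).2 ⟨snd G K, rfl⟩
  haveI : Mono k := ⟨fun {Z} x y e => hK.hom_ext e (toUnit_unique _ _)⟩
  have sq : IsPullback (fst G K) μ' u u := by
    refine ⟨⟨hw⟩, ⟨PullbackCone.IsLimit.mk _
      (fun c => lift c.fst ((MonoQuot.kernel_iff u k hK _ _ _).1 c.condition).choose)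
      (fun c => lift_fst _ _) (fun c => ?_) (fun c n h1 h2 => ?_)⟩⟩
    · show lift _ _ ≫ (fst G K * (snd G K ≫ k)) = c.snd
      rw [MonObj.comp_mul, lift_fst, ← Category.assoc, lift_snd]
      exact ((MonoQuot.kernel_iff u k hK _ _ _).1 c.condition).choose_spec
    · refine CartesianMonoidalCategory.hom_ext _ _ (h1.trans (lift_fst _ _).symm) ?_
      rw [lift_snd, ← cancel_mono k]
      have h3 : n ≫ (fst G K * (snd G K ≫ k)) = c.snd := h2
      rw [MonObj.comp_mul, h1, ← Category.assoc] at h3
      exact mul_left_cancel (h3.trans ((MonoQuot.kernel_iff u k hK _ _ _).1 c.condition).choose_spec.symm)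
  have hfst : Mor2.IsFinLocFreeOfDeg d (fst G K).left :=
    HilbPts.isFinLocFreeOfDeg_of_isPullback (IsPullback.of_hasPullback G.hom K.hom).flip hKd
  have hsq := sq.map (Over.forget _)
  have hpf : Mor2.IsFinLocFreeOfDeg d (pullback.fst f f) := by
    refine HilbPts.isFinLocFreeOfDeg_of_isPullback (a := hsq.isoPullback.inv) (h := 𝟙 _)
      (IsPullback.of_horiz_isIso ⟨?_⟩) hfst
    exact (hsq.isoPullback_inv_fst).trans (Category.comp_id _).symm
  have hps : Mor2.IsFinLocFreeOfDeg d (pullback.snd f f) := by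
    refine HilbPts.isFinLocFreeOfDeg_of_isPullback (a := (pullbackSymmetry f f).hom) (h := 𝟙 _)
      (IsPullback.of_horiz_isIso ⟨?_⟩) hpf
    rw [pullbackSymmetry_hom_comp_fst, Category.comp_id]
  haveI := hps.1.2.1; haveI := hps.1.2.2
  obtain ⟨Q, p, m, hps', hpflat, hplfp, hm, hpm⟩ := MonoQuot.exists_mono_factor f
  haveI := hps'; haveI := hpflat; haveI := hplfp; haveI := hm
  haveI : IsFinite (p ≫ m) := by rw [hpm]; infer_instance
  haveI : QuasiCompact p := QuasiCompact.of_comp p m
  have sqp : IsPullback (pullback.fst f f) (pullback.snd f f) p p := by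
    have h := IsPullback.of_hasPullback f f
    have w : pullback.fst f f ≫ p = pullback.snd f f ≫ p := by
      rw [← cancel_mono m, Category.assoc, Category.assoc, hpm]
      exact pullback.condition
    have hc : ∀ c : PullbackCone p p, c.fst ≫ f = c.snd ≫ f := fun c => by rw [← hpm, c.condition_assoc]
    exact ⟨⟨w⟩, ⟨PullbackCone.IsLimit.mk _ (fun c => h.lift c.fst c.snd (hc c)) (fun c => h.lift_fst _ _ _)
      (fun c => h.lift_snd _ _ _)
      (fun c n h1 h2 => h.hom_ext (h1.trans (h.lift_fst _ _ _).symm) (h2.trans (h.lift_snd _ _ _).symm))⟩⟩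
  have hp : Mor2.IsFinLocFreeOfDeg d p := HilbPts.isFinLocFreeOfDeg_descend sqp hps
  haveI := hp.1.1
  let q := m ≫ H.hom
  haveI : IsFinite (p ≫ q) := by rw [← Category.assoc, hpm]; infer_instance
  haveI : Flat (p ≫ q) := by rw [← Category.assoc, hpm]; infer_instance
  haveI : LocallyOfFinitePresentation (p ≫ q) := by rw [← Category.assoc, hpm, Over.w u]; infer_instance
  obtain ⟨hqfp, hqqc, -⟩ := (Groth.Agent.S4091.result p q).2 ⟨inferInstance, inferInstance, inferInstance⟩
  haveI := hqfp; haveI := hqqc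
  haveI : Flat q := flat_of_surjective_comp p q
  haveI : IsSeparated q := inferInstanceAs (IsSeparated (m ≫ H.hom))
  haveI : UniversallyClosed q := UniversallyClosed.of_comp_surjective p q
  haveI : IsProper q := ⟨⟩
  haveI : IsProper m := by
    haveI : IsProper (m ≫ H.hom) := ‹IsProper q›
    exact IsProper.of_comp m H.hom
  haveI : IsClosedImmersion m := (IsClosedImmersion.iff_isProper_and_mono m).2 ⟨inferInstance, inferInstance⟩
  haveI : IsFinite q := inferInstanceAs (IsFinite (m ≫ H.hom))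
  haveI : Flat (m ≫ H.hom) := ‹Flat q›
  haveI : LocallyOfFinitePresentation (m ≫ H.hom) := hqfp
  haveI : IsIso m := isIso_of_sameRank m H.hom fun s => by
    have h := finrank_comp hp (h := q) s
    rw [show p ≫ q = G.hom by rw [← Category.assoc, hpm, Over.w u], hG.2 s] at h
    rw [hH.2 s]
    exact (Nat.eq_of_mul_eq_mul_left hd h).symm
  refine ⟨?_, ?_⟩
  · exact HilbPts.isFinLocFreeOfDeg_of_isPullback (a := 𝟙 G.left) (h := inv m)
      (IsPullback.of_horiz_isIso ⟨by rw [Category.id_comp, show u.left = p ≫ m from hpm.symm, Category.assoc, IsIso.hom_inv_id, Category.comp_id]⟩) hp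
  · show Surjective f
    rw [← hpm]; infer_instance

end BTExactLib

end
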